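import Cfsg.Agent.H30.ExtraspecialTwo
import Cfsg.Agent.H2.U6E.Setup
import Cfsg.Prelude.Def_TwoFusion

/-!
A group `H` with a normal subgroup `P = V × E` (`V` a four-group, `E` extraspecial), a central
involution `z` and an element `c` of order three whose centraliser covers only the inner half:
the normal four-group `[Z(P), c]` and its centraliser.
-/

set_option autoImplicit false

namespace H20.Fi23C

open scoped commutatorElement

variable {H : Type*} [Group H]

/-- The involution group generated by two elements. -/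
def Four (a b p : H) : Prop := p = 1 ∨ p = a ∨ p = b ∨ p = a * b

/-- The centre of the core. -/
def Eight (z a b p : H) : Prop := Four a b p ∨ Four a b (p * z)

/-- What is found inside the involution centraliser. -/
structure HData {F : Type*} [Field F] [Fintype F] (P : Subgroup H) (z c a b : H) (K : Subgroup H)
    (π : ↥K →* Cfsg.PSp 2 F) : Prop where
  a_sq : a * a = 1
  b_sq : b * b = 1
  ab_comm : Commute a b
  a_ne : a ≠ 1 ∧ a ≠ z
  b_ne : b ≠ 1 ∧ b ≠ z ∧ b ≠ a ∧ b ≠ a * z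
  ab_ne : a * b ≠ z
  c_a : c * a * c⁻¹ = b
  c_b : c * b * c⁻¹ = a * b
  outer : ∃ o : H, o * a * o⁻¹ = a ∧ o * b * o⁻¹ = a * b
  P_le : P ≤ K
  a_mem : a ∈ P
  b_mem : b ∈ P
  z_mem : z ∈ P
  mem_K : ∀ g : H, g ∈ K ↔ Commute a g ∧ Commute b g
  conj_W : ∀ g w : H, Four a b w → Four a b (g * w * g⁻¹)
  card_P : Nat.card P = 2 ^ 11
  sq_mem : ∀ p ∈ P, p * p = 1 ∨ p * p = z
  comm_mem : ∀ p ∈ P, ∀ q ∈ P, p * q = q * p ∨ p * q = q * p * z
  center : ∀ p ∈ P, (∀ q ∈ P, Commute p q) → Eight z a b p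
  c_fix : ∀ p ∈ P, Eight z a b (c * p * c⁻¹ * p⁻¹) → Eight z a b p
  c_K : ∀ h ∈ K, c * h * c⁻¹ * h⁻¹ ∈ P
  inner : ∀ g : H, (∀ h ∈ K, g * h * g⁻¹ * h⁻¹ ∈ P) → ∃ i : ℕ, ∃ j ∈ P, g = c ^ i * j
  π_surj : Function.Surjective π
  π_ker : ∀ g : ↥K, π g = 1 ↔ (g : H) ∈ P
  card_H : Nat.card H = 2 ^ 11 * 155520
  card_K : Nat.card K = 2 ^ 11 * 25920

/-- An element centralising `c` in the core is `1` or `z`. -/
theorem core_cent [Finite H] {F : Type*} [Field F] [Fintype F]
    (hsimple : IsSimpleGroup (Cfsg.PSp 2 F)) (hcard : Nat.card (Cfsg.PSp 2 F) = 25920)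
    {P : Subgroup H} [P.Normal] (hP2 : IsPGroup 2 P) {z c : H} (hz : orderOf z = 2)
    (hzcen : ∀ g, Commute z g) (hc : orderOf c = 3)
    [((Subgroup.zpowers c ⊔ Subgroup.zpowers z).subgroupOf
      (Subgroup.centralizer ({c} : Set H))).Normal]
    (e' : (↥(Subgroup.centralizer ({c} : Set H)) ⧸
      (Subgroup.zpowers c ⊔ Subgroup.zpowers z).subgroupOf (Subgroup.centralizer ({c} : Set H)))
        ≃* Cfsg.PSp 2 F) {p : H} (hp : p ∈ P) (hpc : Commute p c) : p = 1 ∨ p = z := by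
  classical
  have : Fact (Nat.Prime 2) := ⟨Nat.prime_two⟩
  set C := Subgroup.centralizer ({c} : Set H) with hC
  let q : ↥C →* Cfsg.PSp 2 F := e'.toMonoidHom.comp (QuotientGroup.mk' _)
  have hq : Function.Surjective q := e'.surjective.comp (QuotientGroup.mk'_surjective _)
  have hpC : p ∈ C := Subgroup.mem_centralizer_singleton_iff.2 hpc
  have hn : ((P.subgroupOf C).map q).Normal :=
    (Subgroup.Normal.subgroupOf (inferInstance : P.Normal) C).map q hq
  have hbot : (P.subgroupOf C).map q = ⊥ := by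
    refine (hsimple.eq_bot_or_eq_top_of_normal _ hn).resolve_right fun htop => ?_
    have h2 : IsPGroup 2 ((P.subgroupOf C).map q) :=
      (hP2.comap_of_injective C.subtype C.subtype_injective).map q
    obtain ⟨n, hn'⟩ := IsPGroup.iff_card.1 h2
    rw [htop, Subgroup.card_top, hcard] at hn'
    have h3 : 3 ∣ 2 ^ n := hn' ▸ by norm_num
    have := Nat.Prime.dvd_of_dvd_pow Nat.prime_three h3
    omega
  have hm : (⟨p, hpC⟩ : ↥C) ∈ (Subgroup.zpowers c ⊔ Subgroup.zpowers z).subgroupOf C := by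
    have h1 : q ⟨p, hpC⟩ = 1 := Subgroup.mem_bot.1 (hbot ▸ Subgroup.mem_map_of_mem q hp)
    rw [← QuotientGroup.eq_one_iff]
    exact e'.map_eq_one_iff.1 h1
  rw [Subgroup.mem_subgroupOf] at hm
  have hnz : Subgroup.zpowers c ≤ Subgroup.normalizer (Subgroup.zpowers z : Set H) := by
    refine Subgroup.zpowers_le.2 (Subgroup.mem_normalizer_iff.2 fun x => ?_)
    constructor
    · rintro ⟨k, rfl⟩
      exact ⟨k, by rw [((hzcen c).zpow_left k).eq.symm, mul_inv_cancel_right]⟩
    · rintro ⟨k, hk⟩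
      refine ⟨k, ?_⟩
      show z ^ k = x
      have hk' : z ^ k = c * x * c⁻¹ := hk
      calc z ^ k = c⁻¹ * (z ^ k * c) := by rw [((hzcen c).zpow_left k).eq]; group
        _ = x := by rw [hk']; group
  rw [← SetLike.mem_coe, Subgroup.coe_mul_of_left_le_normalizer_right _ _ hnz] at hm
  obtain ⟨x, hx, y, hy, hxy⟩ := hm
  have hy2 : y = 1 ∨ y = z := by
    obtain ⟨k, hk⟩ := hy
    have hk' : z ^ k = y := hk
    rw [← hk', ← zpow_mod_orderOf, hz]
    rcases Int.emod_two_eq_zero_or_one k with h | h <;> simp [h]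
  have hx3 : x ^ 3 = 1 := by
    obtain ⟨k, hk⟩ := hx
    have hk' : c ^ k = x := hk
    rw [← hk', ← zpow_natCast, ← zpow_mul, mul_comm, zpow_mul, zpow_natCast, ← hc,
      pow_orderOf_eq_one, one_zpow]
  have hzP : y ∈ ({1, z} : Set H) := hy2
  -- `x` is a 2-element
  have hxy' : x * y = p := hxy
  obtain ⟨n, hn2⟩ := hP2 ⟨p, hp⟩
  have hpn : p ^ 2 ^ n = 1 := congrArg Subtype.val hn2
  have hxy_comm : Commute x y := by
    rcases hy2 with rfl | rfl
    exacts [Commute.one_right x, (hzcen x).symm]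
  have hzz : z * z = 1 := by rw [← pow_two, ← hz, pow_orderOf_eq_one]
  have hyy : y * y = 1 := by rcases hy2 with rfl | rfl <;> [exact one_mul 1; exact hzz]
  have hx1 : x = 1 := by
    have h1 : x ^ 2 ^ (n + 1) = 1 := by
      have h2 : p ^ 2 ^ (n + 1) = 1 := by rw [pow_succ, pow_mul, hpn, one_pow]
      have hy1 : y ^ 2 ^ (n + 1) = 1 := by rw [pow_succ', pow_mul, pow_two, hyy, one_pow]
      rwa [← hxy', hxy_comm.mul_pow, hy1, mul_one] at h2
    have hd := Nat.dvd_gcd (orderOf_dvd_of_pow_eq_one hx3) (orderOf_dvd_of_pow_eq_one h1)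
    rw [(Nat.Coprime.pow_right _ (by norm_num : Nat.Coprime 3 2)).gcd_eq_one] at hd
    exact orderOf_eq_one_iff.1 (Nat.dvd_one.1 hd)
  rw [← hxy', hx1, one_mul]
  exact hy2

set_option maxHeartbeats 800000 in
/-- The data exist. -/
theorem exists_hdata [Finite H] {F : Type*} [Field F] [Fintype F] (hF : Fintype.card F = 3)
    {P V E : Subgroup H} [hPn : P.Normal] (hP2 : IsPGroup 2 P)
    (hVE : Cfsg.IsInternalDirectProduct V E P) (hV : Nat.card ↥V = 4) (hV2 : ∀ v ∈ V, v ^ 2 = 1)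
    (hE : Cfsg.IsExtraspecial 2 ↥E) (hEc : Nat.card ↥E = 2 ^ 9)
    (hCP : Subgroup.centralizer (P : Set H) ≤ P) {z c : H} (hz : orderOf z = 2)
    (hzcen : ∀ g, Commute z g) (hc : orderOf c = 3)
    [hJc : (P ⊔ Subgroup.zpowers c).Normal]
    (e : (H ⧸ (P ⊔ Subgroup.zpowers c)) ≃* MulAut (Cfsg.PSp 2 F))
    [((Subgroup.zpowers c ⊔ Subgroup.zpowers z).subgroupOf
      (Subgroup.centralizer ({c} : Set H))).Normal]
    (e' : (↥(Subgroup.centralizer ({c} : Set H)) ⧸
      (Subgroup.zpowers c ⊔ Subgroup.zpowers z).subgroupOf (Subgroup.centralizer ({c} : Set H)))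
        ≃* Cfsg.PSp 2 F) :
    ∃ (a b : H) (K : Subgroup H) (π : ↥K →* Cfsg.PSp 2 F), HData P z c a b K π := by
  classical
  have : Fact (Nat.Prime 2) := ⟨Nat.prime_two⟩
  have : Fact (Nat.Prime 3) := ⟨Nat.prime_three⟩
  have hsimple : IsSimpleGroup (Cfsg.PSp 2 F) :=
    H48.isSimpleGroup_psp (Or.inr (Or.inl ⟨by simp, by omega⟩))
  have hcardP := H2.U6E.card_psp_two hF
  have hcardA : Nat.card (MulAut (Cfsg.PSp 2 F)) = 51840 := by
    rw [Cfsg.Agent.S0814.result 3 1 le_rfl (by rw [hF, pow_one]) 2 le_rfl (fun _ => by norm_num),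
      hcardP]
    norm_num
  have fixed : ∀ {p : H}, p ∈ P → Commute p c → p = 1 ∨ p = z :=
    fun hp hpc => core_cent hsimple hcardP hP2 hz hzcen hc e' hp hpc
  have hzP : z ∈ P := hCP (Subgroup.mem_centralizer_iff.2 fun x _ => ((hzcen x).eq).symm)
  have hzz : z * z = 1 := by rw [← pow_two, ← hz, pow_orderOf_eq_one]
  have hz1 : z ≠ 1 := fun h => by rw [h, orderOf_one] at hz; omega
  have hc3 : c ^ 3 = 1 := by rw [← hc, pow_orderOf_eq_one]
  have hccc : c * c * c = 1 := by rw [← hc3, pow_succ, pow_two]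
  obtain ⟨hVP, hEP, hcVE, hint, hsup⟩ := hVE
  replace hcVE : ∀ v ∈ V, ∀ u ∈ E, Commute v u := hcVE
  -- `P` is the product
  have hsplit : ∀ x ∈ P, ∃ v ∈ V, ∃ u ∈ E, x = v * u := by
    intro x hx
    have hn : V ≤ Subgroup.normalizer (E : Set H) := fun v hv =>
      Subgroup.mem_normalizer_iff.2 fun u => by
        constructor
        · intro hu
          rw [(hcVE v hv u hu).eq, mul_inv_cancel_right]; exact hu
        · intro hu
          have h := hcVE v hv _ hu
          have : v * u * v⁻¹ = u := by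
            calc v * u * v⁻¹ = v⁻¹ * (v * (v * u * v⁻¹)) := by group
              _ = v⁻¹ * ((v * u * v⁻¹) * v) := by rw [h.eq]
              _ = u := by group
          rwa [this] at hu
    rw [← hsup, ← SetLike.mem_coe, Subgroup.coe_mul_of_left_le_normalizer_right _ _ hn] at hx
    obtain ⟨v, hv, u, hu, e⟩ := hx
    exact ⟨v, hv, u, hu, e.symm⟩
  have huniq : ∀ v ∈ V, ∀ v' ∈ V, ∀ u ∈ E, ∀ u' ∈ E, v * u = v' * u' → v = v' ∧ u = u' := by
    intro v hv v' hv' u hu u' hu' h
    have h1 : v'⁻¹ * v = u' * u⁻¹ := by rw [eq_mul_inv_iff_mul_eq, mul_assoc, h, inv_mul_cancel_left]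
    have h2 : v'⁻¹ * v ∈ V ⊓ E := ⟨V.mul_mem (V.inv_mem hv') hv, h1 ▸ E.mul_mem hu' (E.inv_mem hu)⟩
    rw [hint, Subgroup.mem_bot, inv_mul_eq_one] at h2
    subst h2
    exact ⟨rfl, mul_left_cancel h⟩
  obtain ⟨w, hw, hwc, hcomm, hsqE⟩ := H30.center_data hE
  have htwo : ∀ x : E, x ∈ Subgroup.zpowers w → (x : H) = 1 ∨ (x : H) = w := fun x hx =>
    (H30.zpowers_two_cases hw hx).imp (fun h => by rw [h]; rfl) fun h => by rw [h]
  have hvv : ∀ v ∈ V, v * v = 1 := fun v hv => by rw [← pow_two]; exact hV2 v hv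
  have hVc : ∀ v ∈ V, ∀ v' ∈ V, Commute v v' := by
    intro v hv v' hv'
    have h1 := hvv _ (mul_mem hv hv')
    rw [mul_eq_one_iff_eq_inv, mul_inv_rev, inv_eq_of_mul_eq_one_right (hvv v hv),
      inv_eq_of_mul_eq_one_right (hvv v' hv')] at h1
    exact h1
  have hVP' : ∀ v ∈ V, ∀ x ∈ P, Commute v x := by
    intro v hv x hx
    obtain ⟨v', hv', u, hu, rfl⟩ := hsplit x hx
    exact (hVc v hv v' hv').mul_right (hcVE v hv u hu)
  have hsqP : ∀ x ∈ P, x * x = 1 ∨ x * x = (w : H) := by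
    intro x hx
    obtain ⟨v, hv, u, hu, rfl⟩ := hsplit x hx
    have h : v * u * (v * u) = u * u := by
      rw [show v * u * (v * u) = v * (u * v) * u by group, ← (hcVE v hv u hu).eq,
        show v * (v * u) * u = (v * v) * (u * u) by group, hvv v hv, one_mul]
    rw [h]
    have h2 := htwo _ (hsqE ⟨u, hu⟩)
    rwa [pow_two] at h2
  have hcomP : ∀ x ∈ P, ∀ y ∈ P, x * y = y * x ∨ x * y = y * x * w := by
    intro x hx y hy
    obtain ⟨v, hv, u, hu, rfl⟩ := hsplit x hx
    obtain ⟨v', hv', u', hu', rfl⟩ := hsplit y hy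
    have hr : ∀ s ∈ V, ∀ t ∈ V, ∀ p ∈ E, ∀ q ∈ E, s * p * (t * q) = s * t * (p * q) := by
      intro s _ t ht p hp q _
      rw [show s * p * (t * q) = s * (p * t) * q by group, ← (hcVE t ht p hp).eq]; group
    rw [hr v hv v' hv' u hu u' hu', hr v' hv' v hv u' hu' u hu, (hVc v' hv' v hv).eq]
    rcases htwo _ (hcomm ⟨u, hu⟩ ⟨u', hu'⟩) with h | h
    · refine Or.inl ?_
      have h' : u * u' * u⁻¹ * u'⁻¹ = 1 := by simpa [commutatorElement_def] using h
      rw [mul_inv_eq_one, mul_inv_eq_iff_eq_mul] at h'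
      rw [h']
    · refine Or.inr ?_
      have h' : u * u' * u⁻¹ * u'⁻¹ = (w : H) := by simpa [commutatorElement_def] using h
      have hm : (⟨u', hu'⟩ * ⟨u, hu⟩ : E) * w = w * (⟨u', hu'⟩ * ⟨u, hu⟩) :=
        Subgroup.mem_center_iff.1 (hwc ▸ Subgroup.mem_zpowers w) _
      have h3 : u' * u * (w : H) = w * (u' * u) := congrArg Subtype.val hm
      rw [mul_assoc (v * v'), h3, ← h']; group
  -- the centre of the extraspecial part is `z`
  have hwP : (w : H) ∈ P := hEP w.2
  have hw1 : (w : H) ≠ 1 := fun h => by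
    have h' : w = 1 := Subtype.ext h
    rw [h', orderOf_one] at hw; omega
  have hwn : ∀ g : H, g * w * g⁻¹ = w := by
    intro g
    obtain ⟨u₀, hu₀, u₁, hu₁, hne⟩ : ∃ u ∈ E, ∃ u' ∈ E, u * u' ≠ u' * u := by
      by_contra! hcon
      have : Nat.card (Subgroup.center E) = 2 ^ 9 := by
        rw [Subgroup.eq_top_iff' _ |>.2 fun x => Subgroup.mem_center_iff.2 fun y =>
          Subtype.ext (hcon y y.2 x x.2), Subgroup.card_top, hEc]
      rw [hwc, Nat.card_zpowers, hw] at this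
      norm_num at this
    have he := (hcomP u₀ (hEP hu₀) u₁ (hEP hu₁)).resolve_left hne
    have h0 : g * u₀ * g⁻¹ * (g * u₁ * g⁻¹) = g * u₁ * g⁻¹ * (g * u₀ * g⁻¹) * (g * w * g⁻¹) := by
      rw [show g * u₀ * g⁻¹ * (g * u₁ * g⁻¹) = g * (u₀ * u₁) * g⁻¹ by group, he]; group
    rcases hcomP _ (hPn.conj_mem _ (hEP hu₀) g) _ (hPn.conj_mem _ (hEP hu₁) g) with h | h
    · rw [h] at h0
      exact absurd (conj_eq_one_iff.1 (left_eq_mul.1 h0)) hw1
    · rw [h] at h0
      exact (mul_left_cancel h0).symm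
  have hwz : (w : H) = z := by
    rcases fixed hwP (mul_inv_eq_iff_eq_mul.1 (hwn c)).symm.symm.symm with h | h
    · exact absurd h hw1
    · exact h
  rw [hwz] at hsqP hcomP
  -- the centre of `P`
  have hcentre : ∀ x ∈ P, (∀ y ∈ P, Commute x y) → ∃ v ∈ V, x = v ∨ x = v * z := by
    intro x hx hxc
    obtain ⟨v, hv, u, hu, rfl⟩ := hsplit x hx
    refine ⟨v, hv, ?_⟩
    have hm : (⟨u, hu⟩ : E) ∈ Subgroup.center E := Subgroup.mem_center_iff.2 fun t =>
      Subtype.ext (show (t : H) * u = u * t by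
        have h := hxc t (hEP t.2)
        have h2 : Commute (v * u) (t : H) := h
        have h3 := (hcVE v hv t t.2).inv_left.mul_left h2
        rw [inv_mul_cancel_left] at h3
        exact h3.eq.symm)
    rw [hwc] at hm
    rcases htwo _ hm with h | h
    · exact Or.inl (by rw [show u = 1 from h, mul_one])
    · exact Or.inr (by rw [show u = (w : H) from h, hwz])
  let Z : Subgroup H := P ⊓ Subgroup.centralizer (P : Set H)
  have hVZ : ∀ v ∈ V, v ∈ Z := fun v hv =>
    ⟨hVP hv, Subgroup.mem_centralizer_iff.2 fun x hx => (hVP' v hv x hx).eq.symm⟩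
  have hzZ : z ∈ Z := ⟨hzP, Subgroup.mem_centralizer_iff.2 fun x _ => (hzcen x).eq.symm⟩
  have hZcen : ∀ p ∈ Z, ∀ x ∈ P, Commute p x := fun p hp x hx =>
    (Subgroup.mem_centralizer_iff.1 hp.2 x hx).symm
  have hZconj : ∀ g : H, ∀ p ∈ Z, g * p * g⁻¹ ∈ Z := by
    intro g p hp
    refine ⟨hPn.conj_mem p hp.1 g, Subgroup.mem_centralizer_iff.2 fun x hx => ?_⟩
    have h := (hZcen p hp _ (hPn.conj_mem x hx g⁻¹)).map (MulAut.conj g).toMonoidHom
    simpa [mul_assoc] using h.eq.symm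
  have hZc : ∀ p ∈ Z, ∀ q ∈ Z, Commute p q := fun p hp q hq => hZcen p hp q hq.1
  have hZsq : ∀ p ∈ Z, p * p = 1 := by
    intro p hp
    obtain ⟨v, hv, rfl | rfl⟩ := hcentre p hp.1 (hZcen p hp)
    · exact hvv _ hv
    · rw [show v * z * (v * z) = v * (z * v) * z by group, (hzcen v).eq,
        show v * (v * z) * z = (v * v) * (z * z) by group, hvv v hv, hzz, one_mul]
  have hZcard : Nat.card Z ≤ 8 := by
    let F8 : V × Bool → Z := fun p => ⟨(p.1 : H) * (if p.2 then z else 1), by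
      refine mul_mem (hVZ _ p.1.2) ?_
      split
      exacts [hzZ, one_mem _]⟩
    have hsurj : Function.Surjective F8 := by
      rintro ⟨p, hp⟩
      obtain ⟨v, hv, h | h⟩ := hcentre p hp.1 (hZcen p hp)
      · exact ⟨(⟨v, hv⟩, false), Subtype.ext (by simp [F8, h])⟩
      · exact ⟨(⟨v, hv⟩, true), Subtype.ext (by simp [F8, h])⟩
    refine (Nat.card_le_card_of_surjective F8 hsurj).trans ?_
    rw [Nat.card_prod, hV, Nat.card_eq_fintype_card, Fintype.card_bool]
  obtain ⟨v, hvV, hv1, hvz⟩ : ∃ v ∈ V, v ≠ 1 ∧ v ≠ z := by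
    by_contra! hcon
    have hsub : (V : Set H) ⊆ ↑({1, z} : Finset H) := fun v hv => by
      by_cases h : v = 1
      · simp [h]
      · simp [hcon v hv h]
    have h1 := Set.ncard_le_ncard hsub (Finset.finite_toSet _)
    rw [Set.ncard_coe_finset, ← Nat.card_coe_set_eq] at h1
    have h2 : ({1, z} : Finset H).card ≤ 2 := Finset.card_le_two
    change Nat.card ↥V ≤ _ at h1
    omega
  set v₁ := c * v * c⁻¹ with hv₁
  set v₂ := c * v₁ * c⁻¹ with hv₂
  have hv₀ : v ∈ Z := hVZ v hvV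
  have hv₁Z : v₁ ∈ Z := hZconj c v hv₀
  have hv₂Z : v₂ ∈ Z := hZconj c v₁ hv₁Z
  have hnc : v₁ ≠ v := fun h => by
    rcases fixed hv₀.1 (mul_inv_eq_iff_eq_mul.1 (h : c * v * c⁻¹ = v)).symm with e | e
    exacts [hv1 e, hvz e]
  have hcyc : c * v₂ * c⁻¹ = v := by
    rw [hv₂, hv₁, show c * (c * (c * v * c⁻¹) * c⁻¹) * c⁻¹ = c * c * c * v * (c * c * c)⁻¹ by group, hccc]
    group
  have hv₂v : v₂ ≠ v := fun h => hnc (by rw [h] at hcyc; exact hcyc)
  have hv₁z : v₁ ≠ v * z := fun h => by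
    have : v₂ = v := by
      rw [hv₂, h, show c * (v * z) * c⁻¹ = (c * v * c⁻¹) * (c * z * c⁻¹) by group, ← hv₁,
        ← (hzcen c).eq, mul_inv_cancel_right, h, mul_assoc, hzz, mul_one]
    exact hv₂v this
  have hv₂z : v₂ ≠ v * z := fun h => by
    have h2 : v = v₁ * z := by
      conv_lhs => rw [← hcyc, h]
      rw [show c * (v * z) * c⁻¹ = (c * v * c⁻¹) * (c * z * c⁻¹) by group, ← hv₁, ← (hzcen c).eq,
        mul_inv_cancel_right]
    exact hv₁z (by rw [h2, mul_assoc, hzz, mul_one])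
  set a := v * v₁ with ha
  set b := v₁ * v₂ with hb
  have haZ : a ∈ Z := mul_mem hv₀ hv₁Z
  have hbZ : b ∈ Z := mul_mem hv₁Z hv₂Z
  have hab : a * b = v * v₂ := by
    rw [ha, hb, show v * v₁ * (v₁ * v₂) = v * (v₁ * v₁) * v₂ by group, hZsq _ hv₁Z, mul_one]
  have hca : c * a * c⁻¹ = b := by
    rw [ha, hb, hv₂, hv₁]; group
  have hcb : c * b * c⁻¹ = a * b := by
    rw [hab, hb, show c * (v₁ * v₂) * c⁻¹ = (c * v₁ * c⁻¹) * (c * v₂ * c⁻¹) by group, ← hv₂, hcyc]
    exact (hZc _ hv₂Z _ hv₀).eq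
  have hne : ∀ x ∈ Z, ∀ y ∈ Z, ∀ t, x * y = t → y = x * t := fun x hx y _ t h => by
    rw [← h, ← mul_assoc, hZsq x hx, one_mul]
  have ha1 : a ≠ 1 := fun h => hnc (by simpa using hne v hv₀ v₁ hv₁Z 1 h)
  have haz : a ≠ z := fun h => hv₁z (hne v hv₀ v₁ hv₁Z z h)
  have hab1 : a * b ≠ 1 := fun h => hv₂v (by simpa using hne v hv₀ v₂ hv₂Z 1 (hab ▸ h))
  have habz : a * b ≠ z := fun h => hv₂z (hne v hv₀ v₂ hv₂Z z (hab ▸ h))
  have hb1 : b ≠ 1 := fun h => ha1 (by rw [h] at hca; exact conj_eq_one_iff.1 hca)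
  have hbz : b ≠ z := fun h => haz (by
    rw [h, mul_inv_eq_iff_eq_mul, (hzcen c).eq] at hca; exact mul_left_cancel hca)
  have hbab : b ≠ a := fun h => hab1 (by rw [h]; exact hZsq a haZ)
  have hbaz : b ≠ a * z := fun h => habz (by rw [h, ← mul_assoc, hZsq a haZ, one_mul])
  -- the eight elements
  have hfour : ∀ x, Four a b x → x ∈ Z := by
    rintro x (rfl | rfl | rfl | rfl)
    exacts [one_mem _, haZ, hbZ, mul_mem haZ hbZ]
  have h8 : ∀ x ∈ Z, Eight z a b x := by
    intro x hx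
    by_contra hcon
    simp only [Eight, Four, not_or] at hcon
    have e : ∀ s : H, s * z * z = s := fun s => by rw [mul_assoc, hzz, mul_one]
    have e2 : ∀ s : H, x * z = s ↔ x = s * z := fun s =>
      ⟨fun h => by rw [← h, e], fun h => by rw [h, e]⟩
    simp only [e2, one_mul] at hcon
    have hlist : ([x, 1, a, b, a * b, z, a * z, b * z, a * b * z] : List H).Nodup := by
      simp only [List.nodup_cons, List.mem_cons, List.not_mem_nil, or_false, not_or, List.nodup_nil,
        and_true, not_false_eq_true]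
      have haa := hZsq a haZ
      have hbb := hZsq b hbZ
      have hcom := (hZc a haZ b hbZ).eq
      have hz' : ∀ {s t : H}, s * z = t * z → s = t := fun h => mul_right_cancel h
      refine ⟨⟨hcon.1.1, hcon.1.2.1, hcon.1.2.2.1, hcon.1.2.2.2, hcon.2.1, hcon.2.2.1, hcon.2.2.2.1,
        hcon.2.2.2.2⟩, ⟨ha1.symm, hb1.symm, hab1.symm, hz1.symm, fun h => haz ?_, fun h => hbz ?_,
        fun h => habz ?_⟩, ⟨hbab.symm, fun h => hb1 (left_eq_mul.1 h), haz,
        fun h => hz1 (left_eq_mul.1 h), fun h => hbaz ?_, fun h => hbz ?_⟩,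
        ⟨fun h => ha1 (right_eq_mul.1 h), hbz, hbaz, fun h => hz1 (left_eq_mul.1 h), fun h => haz ?_⟩,
        ⟨habz, fun h => hbz ?_, fun h => haz ?_, fun h => hz1 (left_eq_mul.1 h)⟩,
        ⟨fun h => ha1 (right_eq_mul.1 h), fun h => hb1 (right_eq_mul.1 h),
          fun h => hab1 (right_eq_mul.1 h)⟩,
        ⟨fun h => hbab (hz' h).symm, fun h => hb1 (left_eq_mul.1 (hz' h))⟩,
        fun h => ha1 (right_eq_mul.1 (hz' h))⟩
      · rw [← e a, ← h, one_mul]
      · rw [← e b, ← h, one_mul]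
      · rw [← e (a * b), ← h, one_mul]
      · rw [h, e]
      · have h2 : b * z = 1 := mul_left_cancel (a := a) (by rw [← mul_assoc, ← h, mul_one])
        rw [← e b, h2, one_mul]
      · have h2 : a * z = 1 := mul_left_cancel (a := b)
          (by rw [← mul_assoc, ← hcom, ← h, mul_one])
        rw [← e a, h2, one_mul]
      · exact mul_left_cancel h
      · rw [hcom] at h
        exact mul_left_cancel h
    have hsub : ↑([x, 1, a, b, a * b, z, a * z, b * z, a * b * z] : List H).toFinset ⊆ (Z : Set H) := by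
      intro y hy
      simp only [List.coe_toFinset, List.mem_cons, List.not_mem_nil, or_false, Set.mem_ofPred_eq] at hy
      rcases hy with rfl | rfl | rfl | rfl | rfl | rfl | rfl | rfl | rfl
      exacts [hx, one_mem _, haZ, hbZ, mul_mem haZ hbZ, hzZ, mul_mem haZ hzZ, mul_mem hbZ hzZ,
        mul_mem (mul_mem haZ hbZ) hzZ]
    have h1 := Set.ncard_le_ncard hsub (Set.toFinite _)
    rw [Set.ncard_coe_finset, List.toFinset_card_of_nodup hlist, ← Nat.card_coe_set_eq] at h1
    have h9 : (9 : ℕ) ≤ Nat.card ↥Z := h1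
    omega
  -- `[Z, c]` is the four-group
  have hdelta : ∀ x ∈ Z, Four a b (x * (c * x * c⁻¹)) := by
    intro x hx
    have haa := hZsq a haZ
    have hbb := hZsq b hbZ
    have hcom := (hZc a haZ b hbZ).eq
    have hzc' : c * z * c⁻¹ = z := by rw [← (hzcen c).eq, mul_inv_cancel_right]
    have hdz : ∀ y, x = y * z → x * (c * x * c⁻¹) = y * (c * y * c⁻¹) := fun y hy => by
      rw [hy, show c * (y * z) * c⁻¹ = (c * y * c⁻¹) * (c * z * c⁻¹) by group, hzc',
        show y * z * (c * y * c⁻¹ * z) = y * (z * (c * y * c⁻¹)) * z by group, (hzcen _).eq,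
        show y * (c * y * c⁻¹ * z) * z = y * (c * y * c⁻¹) * (z * z) by group, hzz, mul_one]
    have hfd : ∀ y, Four a b y → Four a b (y * (c * y * c⁻¹)) := by
      rintro y (rfl | rfl | rfl | rfl)
      · left; group
      · right; right; right; rw [hca]
      · right; left
        rw [hcb, hcom, ← mul_assoc, hbb, one_mul]
      · right; right; left
        rw [show c * (a * b) * c⁻¹ = (c * a * c⁻¹) * (c * b * c⁻¹) by group, hca, hcb,
          show a * b * (b * (a * b)) = a * (b * b) * (a * b) by group, hbb, mul_one, ← mul_assoc,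
          haa, one_mul]
    rcases h8 x hx with h | h
    · exact hfd x h
    · rw [hdz (x * z) (by rw [mul_assoc, hzz, mul_one])]
      exact hfd _ h
  have hnat : ∀ g ∈ P ⊔ Subgroup.zpowers c, ∃ i : ℕ, ∃ j ∈ P, g = c ^ i * j := by
    intro g hg
    rw [sup_comm, ← SetLike.mem_coe, Subgroup.mul_normal] at hg
    obtain ⟨x, hx, j, hj, rfl⟩ := hg
    obtain ⟨k, hk⟩ := (isOfFinOrder_of_finite c).mem_powers_iff_mem_zpowers.2 hx
    exact ⟨k, j, hj, congrArg (· * j) hk.symm⟩
  have hcon : ∀ g x : H, Four a b x → Four a b (g * x * g⁻¹) := by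
    intro g x hx
    obtain ⟨y, hy, rfl⟩ : ∃ y ∈ Z, x = y * (c * y * c⁻¹) := by
      have haa := hZsq a haZ
      have hbb := hZsq b hbZ
      rcases hx with rfl | rfl | rfl | rfl
      · exact ⟨1, one_mem _, by group⟩
      · exact ⟨v, hv₀, rfl⟩
      · exact ⟨v₁, hv₁Z, rfl⟩
      · refine ⟨v₂, hv₂Z, ?_⟩
        rw [hcyc, hab, (hZc _ hv₀ _ hv₂Z).eq]
    obtain ⟨i, j, hj, hg⟩ := hnat _ (hJc.conj_mem c (Subgroup.mem_sup_right
      (Subgroup.mem_zpowers c)) g)
    set y' := g * y * g⁻¹ with hy'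
    have hy'Z : y' ∈ Z := hZconj g y hy
    have hact : g * (c * y * c⁻¹) * g⁻¹ = c ^ i * y' * (c ^ i)⁻¹ := by
      rw [show g * (c * y * c⁻¹) * g⁻¹ = (g * c * g⁻¹) * (g * y * g⁻¹) * (g * c * g⁻¹)⁻¹ by group,
        hg, ← hy', show c ^ i * j * y' * (c ^ i * j)⁻¹ = c ^ i * (j * y' * j⁻¹) * (c ^ i)⁻¹ by group,
        ← (hZcen y' hy'Z j hj).eq, mul_inv_cancel_right]
    rw [show g * (y * (c * y * c⁻¹)) * g⁻¹ = (g * y * g⁻¹) * (g * (c * y * c⁻¹) * g⁻¹) by group,
      hact, ← hy']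
    have hmod : c ^ i = c ^ (i % 3) := by rw [← hc, pow_mod_orderOf]
    rw [hmod]
    have h3 : i % 3 = 0 ∨ i % 3 = 1 ∨ i % 3 = 2 := by omega
    rcases h3 with h | h | h <;> rw [h]
    · refine Or.inl ?_
      rw [pow_zero, one_mul, inv_one, mul_one, hZsq y' hy'Z]
    · rw [pow_one]; exact hdelta y' hy'Z
    · have hy2 : c ^ 2 * y' * (c ^ 2)⁻¹ ∈ Z := hZconj _ y' hy'Z
      have h2 := hdelta _ hy2
      rw [show c * (c ^ 2 * y' * (c ^ 2)⁻¹) * c⁻¹ = c ^ 3 * y' * (c ^ 3)⁻¹ by group, hc3,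
        one_mul, inv_one, mul_one] at h2
      rwa [(hZc _ hy2 _ hy'Z).eq] at h2
  -- the centraliser of the four-group
  let K : Subgroup H := Subgroup.centralizer ({a} : Set H) ⊓ Subgroup.centralizer ({b} : Set H)
  have hmemK : ∀ g, g ∈ K ↔ Commute a g ∧ Commute b g := fun g => by
    show g ∈ Subgroup.centralizer ({a} : Set H) ⊓ Subgroup.centralizer ({b} : Set H) ↔ _
    rw [Subgroup.mem_inf, Subgroup.mem_centralizer_singleton_iff,
      Subgroup.mem_centralizer_singleton_iff]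
    exact ⟨fun h => ⟨h.1.symm, h.2.symm⟩, fun h => ⟨h.1.eq.symm, h.2.eq.symm⟩⟩
  have hPK : P ≤ K := fun x hx => (hmemK x).2 ⟨hZcen a haZ x hx, hZcen b hbZ x hx⟩
  -- the action on the three involutions
  let T := {x : H // x = a ∨ x = b ∨ x = a * b}
  have hTcon : ∀ g : H, ∀ x : T, g * x.1 * g⁻¹ = a ∨ g * x.1 * g⁻¹ = b ∨ g * x.1 * g⁻¹ = a * b := by
    intro g x
    rcases hcon g x.1 (Or.inr x.2) with h | h
    · exfalso
      rw [conj_eq_one_iff] at h
      rcases x.2 with h' | h' | h' <;> rw [h'] at h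
      exacts [ha1 h, hb1 h, hab1 h]
    · exact h
  let σ : H →* Equiv.Perm T :=
    { toFun := fun g =>
        { toFun := fun x => ⟨g * x.1 * g⁻¹, hTcon g x⟩
          invFun := fun x => ⟨g⁻¹ * x.1 * g⁻¹⁻¹, hTcon g⁻¹ x⟩
          left_inv := fun x => Subtype.ext (by group)
          right_inv := fun x => Subtype.ext (by group) }
      map_one' := Equiv.ext fun x => Subtype.ext (by simp)
      map_mul' := fun g h => Equiv.ext fun x => Subtype.ext (by simp [mul_assoc]) }
  have hσk : σ.ker = K := by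
    ext g
    rw [MonoidHom.mem_ker, hmemK]
    constructor
    · intro h
      have h1 : g * a * g⁻¹ = a := congrArg Subtype.val (DFunLike.congr_fun h ⟨a, Or.inl rfl⟩)
      have h2 : g * b * g⁻¹ = b :=
        congrArg Subtype.val (DFunLike.congr_fun h ⟨b, Or.inr (Or.inl rfl)⟩)
      rw [mul_inv_eq_iff_eq_mul] at h1 h2
      exact ⟨h1.symm, h2.symm⟩
    · rintro ⟨h1, h2⟩
      refine Equiv.ext fun x => Subtype.ext ?_
      show g * x.1 * g⁻¹ = x.1
      have h3 : Commute x.1 g := by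
        rcases x.2 with h | h | h <;> rw [h]
        exacts [h1, h2, h1.mul_left h2]
      rw [← h3.eq, mul_inv_cancel_right]
  have hperm : Nat.card (Equiv.Perm T) = 6 := by
    have hT : Nat.card T = 3 := by
      have e3 : Nat.card T = ({a, b, a * b} : Finset H).card := by
        rw [← Nat.card_eq_finsetCard]
        exact Nat.card_congr (Equiv.subtypeEquivRight fun x => by simp)
      rw [e3]
      refine Finset.card_eq_three.2 ⟨a, b, a * b, hbab.symm, ?_, ?_, rfl⟩
      · exact fun h => hb1 (left_eq_mul.1 h)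
      · exact fun h => ha1 (right_eq_mul.1 h)
    rw [Nat.card_perm, hT]
    rfl
  have hKidx : K.index ≤ 6 := by
    rw [← hσk, Subgroup.index_ker, ← hperm]
    exact Nat.card_le_card_of_injective _ Subtype.val_injective
  -- the map to the automorphism group
  let f : H →* MulAut (Cfsg.PSp 2 F) := e.toMonoidHom.comp (QuotientGroup.mk' _)
  have hf : Function.Surjective f := e.surjective.comp (QuotientGroup.mk'_surjective _)
  have hfk : ∀ g, f g = 1 ↔ g ∈ P ⊔ Subgroup.zpowers c := fun g => by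
    show e (QuotientGroup.mk' _ g) = 1 ↔ _
    rw [e.map_eq_one_iff, QuotientGroup.mk'_apply, QuotientGroup.eq_one_iff]
  have hKP : ∀ g ∈ K, f g = 1 → g ∈ P := by
    intro g hg hf1
    obtain ⟨i, j, hj, rfl⟩ := hnat g ((hfk g).1 hf1)
    have hci : c ^ i ∈ K := by
      have := mul_mem hg (inv_mem (hPK hj))
      rwa [mul_inv_cancel_right] at this
    have hmod : c ^ i = c ^ (i % 3) := by rw [← hc, pow_mod_orderOf]
    have h3 : i % 3 = 0 ∨ i % 3 = 1 ∨ i % 3 = 2 := by omega
    rcases h3 with h | h | h <;> rw [hmod, h] at hci ⊢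
    · rw [pow_zero, one_mul]; exact hj
    · exfalso
      rw [pow_one, hmemK] at hci
      rw [← hci.1.eq, mul_inv_cancel_right] at hca
      exact hbab hca.symm
    · exfalso
      rw [hmemK] at hci
      have h1 : c ^ 2 * a * (c ^ 2)⁻¹ = a := by rw [← hci.1.eq, mul_inv_cancel_right]
      have h2 : c ^ 2 * a * (c ^ 2)⁻¹ = a * b := by
        rw [← hcb, ← hca, pow_two]; group
      exact hb1 (left_eq_mul.1 (h1.symm.trans h2))
  let fK : ↥K →* MulAut (Cfsg.PSp 2 F) := f.comp K.subtype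
  have hfKker : fK.ker = P.subgroupOf K := by
    ext x
    rw [MonoidHom.mem_ker, Subgroup.mem_subgroupOf]
    exact ⟨fun h => hKP x x.2 h, fun h => (hfk _).2 (Subgroup.mem_sup_left h)⟩
  have hPcard : Nat.card P = 2 ^ 11 := by
    let F11 : V × E → P := fun p => ⟨(p.1 : H) * p.2, mul_mem (hVP p.1.2) (hEP p.2.2)⟩
    have hb : Function.Bijective F11 := by
      refine ⟨fun p q h => ?_, ?_⟩
      · obtain ⟨h1, h2⟩ := huniq _ p.1.2 _ q.1.2 _ p.2.2 _ q.2.2 (congrArg Subtype.val h)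
        exact Prod.ext (Subtype.ext h1) (Subtype.ext h2)
      · rintro ⟨x, hx⟩
        obtain ⟨v, hv, u, hu, rfl⟩ := hsplit x hx
        exact ⟨(⟨v, hv⟩, ⟨u, hu⟩), rfl⟩
    rw [← Nat.card_congr (Equiv.ofBijective F11 hb), Nat.card_prod, hV, hEc]
    norm_num
  have hccard : Nat.card ↥(P ⊔ Subgroup.zpowers c) = 2 ^ 11 * 3 := by
    rw [← hPcard, ← hc, ← Nat.card_zpowers c, ← Nat.card_prod]
    symm
    refine Nat.card_congr (Equiv.ofBijective (fun p : P × Subgroup.zpowers c =>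
      (⟨(p.2 : H) * p.1, mul_mem (Subgroup.mem_sup_right p.2.2) (Subgroup.mem_sup_left p.1.2)⟩ :
        ↥(P ⊔ Subgroup.zpowers c))) ⟨fun p q h => ?_, ?_⟩)
    · have h1 : (p.2 : H) * p.1 = q.2 * q.1 := congrArg Subtype.val h
      have h2 : (q.2 : H)⁻¹ * p.2 = q.1 * (p.1 : H)⁻¹ := by
        rw [eq_mul_inv_iff_mul_eq, mul_assoc, h1, inv_mul_cancel_left]
      have h3 : (q.2 : H)⁻¹ * p.2 = 1 := by
        have hm : ((q.2 : H)⁻¹ * p.2) ∈ Subgroup.zpowers c := mul_mem (inv_mem q.2.2) p.2.2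
        have hP' : ((q.2 : H)⁻¹ * p.2) ∈ P := h2 ▸ mul_mem q.1.2 (inv_mem p.1.2)
        obtain ⟨n, hn⟩ := hP2 ⟨_, hP'⟩
        have hn' : ((q.2 : H)⁻¹ * p.2) ^ 2 ^ n = 1 := congrArg Subtype.val hn
        have hd := Nat.dvd_gcd ((orderOf_dvd_of_mem_zpowers hm).trans hc.dvd)
          (orderOf_dvd_of_pow_eq_one hn')
        rw [(Nat.Coprime.pow_right _ (by norm_num : Nat.Coprime 3 2)).gcd_eq_one] at hd
        exact orderOf_eq_one_iff.1 (Nat.dvd_one.1 hd)
      rw [inv_mul_eq_one] at h3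
      rw [h3] at h1
      exact Prod.ext (Subtype.ext (mul_left_cancel h1)) (Subtype.ext h3.symm)
    · rintro ⟨g, hg⟩
      obtain ⟨i, j, hj, rfl⟩ := hnat g hg
      exact ⟨(⟨j, hj⟩, ⟨c ^ i, Subgroup.npow_mem_zpowers c i⟩), rfl⟩
  have hHcard : Nat.card H = 2 ^ 11 * 155520 := by
    rw [Subgroup.card_eq_card_quotient_mul_card_subgroup (P ⊔ Subgroup.zpowers c),
      Nat.card_congr e.toEquiv, hcardA, hccard]
    norm_num
  have hKcard : Nat.card K = 2 ^ 11 * Nat.card fK.range := by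
    rw [← Subgroup.index_ker, ← Subgroup.card_mul_index fK.ker, hfKker,
      Nat.card_congr (Subgroup.subgroupOfEquivOfLe hPK).toEquiv, hPcard]
  have hrn : fK.range.Normal := by
    have : K.Normal := hσk ▸ MonoidHom.normal_ker σ
    have h := this.map f hf
    rwa [show fK.range = K.map f by rw [MonoidHom.range_comp, Subgroup.range_subtype]]
  -- the range is the inner part
  have hinj : Function.Injective (MulAut.conj : Cfsg.PSp 2 F →* MulAut (Cfsg.PSp 2 F)) := by
    rw [injective_iff_map_eq_one]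
    intro x hx
    have hx' : x ∈ Subgroup.center (Cfsg.PSp 2 F) := Subgroup.mem_center_iff.2 fun y => by
      have h := DFunLike.congr_fun hx y
      rw [MulAut.conj_apply, MulAut.one_apply, mul_inv_eq_iff_eq_mul] at h
      exact h.symm
    rwa [H48.center_psp_eq_bot le_rfl (fun _ => by omega), Subgroup.mem_bot] at hx'
  have hIcard : Nat.card (MulAut.conj : Cfsg.PSp 2 F →* MulAut (Cfsg.PSp 2 F)).range = 25920 := by
    rw [← hcardP]
    exact (Nat.card_congr (MonoidHom.ofInjective hinj).toEquiv).symm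
  have hKidx6 : Nat.card K * K.index = Nat.card H := Subgroup.card_mul_index K
  have hrange_ne : Nat.card fK.range ≠ 51840 := by
    intro h
    -- every element of `K` centralises `c` up to the core
    have hcov : ∀ g ∈ K, ∃ g' ∈ Subgroup.centralizer ({c} : Set H), f g' = f g := by
      intro g hg
      have hgc : g * c * g⁻¹ ∈ P ⊔ Subgroup.zpowers c :=
        hJc.conj_mem c (Subgroup.mem_sup_right (Subgroup.mem_zpowers c)) g
      have hd : c⁻¹ * (g * c * g⁻¹) ∈ P := by
        have hKn : K.Normal := hσk ▸ MonoidHom.normal_ker σ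
        refine hKP _ ?_ ((hfk _).2 (mul_mem (inv_mem (Subgroup.mem_sup_right
          (Subgroup.mem_zpowers c))) hgc))
        rw [show c⁻¹ * (g * c * g⁻¹) = c⁻¹ * g * c⁻¹⁻¹ * g⁻¹ by group]
        exact mul_mem (hKn.conj_mem g hg c⁻¹) (inv_mem hg)
      let M : Subgroup H := P ⊔ Subgroup.zpowers c
      have hcM : c ∈ M := Subgroup.mem_sup_right (Subgroup.mem_zpowers c)
      have hS : ∀ (x : H) (hx : x ∈ M), orderOf x = 3 → IsPGroup 3 (Subgroup.zpowers (⟨x, hx⟩ : M)) := by
        intro x hx h3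
        refine IsPGroup.of_card (n := 1) ?_
        rw [Nat.card_zpowers, pow_one, ← Subgroup.orderOf_coe, h3]
      have hgo : orderOf (g * c * g⁻¹) = 3 := by
        rw [← hc]; exact orderOf_injective (MulAut.conj g).toMonoidHom (MulAut.conj g).injective c
      obtain ⟨S₁, hS₁⟩ := (hS c hcM hc).exists_le_sylow
      obtain ⟨S₂, hS₂⟩ := (hS _ hgc hgo).exists_le_sylow
      have hScard : ∀ S : Sylow 3 M, Nat.card S = 3 := fun S => by
        rw [S.card_eq_multiplicity, show Nat.card M = 2 ^ 11 * 3 from hccard,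
          Nat.factorization_mul (by norm_num) (by norm_num), Finsupp.add_apply,
          Nat.Prime.factorization_pow Nat.prime_two, Nat.Prime.factorization Nat.prime_three]
        simp
      obtain ⟨m, hm⟩ := MulAction.exists_smul_eq M S₁ S₂
      have hm' : m * ⟨c, hcM⟩ * m⁻¹ ∈ (S₂ : Subgroup M) := by
        rw [← hm]
        exact ⟨⟨c, hcM⟩, hS₁ (Subgroup.mem_zpowers _), rfl⟩
      have heq : Subgroup.zpowers (⟨g * c * g⁻¹, hgc⟩ : M) = (S₂ : Subgroup M) := by
        refine Subgroup.eq_of_le_of_card_ge hS₂ ?_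
        rw [Nat.card_zpowers, ← Subgroup.orderOf_coe, hgo]
        exact (hScard S₂).le
      rw [← heq] at hm'
      obtain ⟨k, hk⟩ := hm'
      have hk' : (g * c * g⁻¹) ^ k = (m : H) * c * (m : H)⁻¹ := congrArg Subtype.val hk
      obtain ⟨i, j, hj, hmij⟩ := hnat (m : H) m.2
      -- compare modulo `P`
      let π₀ : H →* H ⧸ P := QuotientGroup.mk' P
      have hπj : ∀ y ∈ P, π₀ y = 1 := fun y hy => (QuotientGroup.eq_one_iff y).2 hy
      have hmodc : π₀ c ^ k = π₀ c := by
        have h1 : π₀ (g * c * g⁻¹) = π₀ c := by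
          rw [← mul_inv_cancel_left c (g * c * g⁻¹), map_mul, hπj _ hd, mul_one]
        have h2 := congrArg π₀ hk'
        rw [map_zpow, h1, hmij, map_mul, map_mul, map_inv, map_mul, map_pow, hπj j hj, mul_one] at h2
        rw [h2]; group
      have hk3 : (g * c * g⁻¹) ^ k = g * c * g⁻¹ := by
        have hoc : orderOf (π₀ c) = 3 := by
          refine orderOf_eq_prime (by rw [← map_pow, hc3, map_one]) fun h1 => ?_
          have hcP : c ∈ P := (QuotientGroup.eq_one_iff c).1 h1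
          obtain ⟨n, hn⟩ := hP2 ⟨c, hcP⟩
          have hn' : c ^ 2 ^ n = 1 := congrArg Subtype.val hn
          have hd' := orderOf_dvd_of_pow_eq_one hn'
          rw [hc] at hd'
          have := Nat.Prime.dvd_of_dvd_pow Nat.prime_three hd'
          omega
        have hk1 := orderOf_dvd_sub_iff_zpow_eq_zpow.2
          (hmodc.trans (zpow_one (π₀ c)).symm)
        rw [hoc] at hk1
        conv_rhs => rw [← zpow_one (g * c * g⁻¹)]
        exact orderOf_dvd_sub_iff_zpow_eq_zpow.1 (by rw [hgo]; exact hk1)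
      rw [hk3] at hk'
      refine ⟨(m : H)⁻¹ * g, Subgroup.mem_centralizer_singleton_iff.2 ?_, ?_⟩
      · calc (m : H)⁻¹ * g * c = (m : H)⁻¹ * (g * c * g⁻¹) * g := by group
          _ = c * ((m : H)⁻¹ * g) := by rw [hk']; group
      · rw [map_mul, map_inv, (hfk _).2 m.2, inv_one, one_mul]
    let C := Subgroup.centralizer ({c} : Set H)
    let fC : ↥C →* MulAut (Cfsg.PSp 2 F) := f.comp C.subtype
    have hle : fK.range ≤ fC.range := by
      rintro _ ⟨g, rfl⟩
      obtain ⟨g', hg', he⟩ := hcov g g.2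
      exact ⟨⟨g', hg'⟩, he⟩
    have hker : (Subgroup.zpowers c ⊔ Subgroup.zpowers z).subgroupOf C ≤ fC.ker := by
      intro x hx
      rw [MonoidHom.mem_ker]
      refine (hfk _).2 ?_
      exact sup_le (le_sup_right) (Subgroup.zpowers_le.2 (Subgroup.mem_sup_left hzP)) hx
    have hsurj : Function.Surjective ((QuotientGroup.lift _ fC hker).rangeRestrict) :=
      MonoidHom.rangeRestrict_surjective _
    have h1 : Nat.card fC.range ≤ 25920 := by
      rw [← hcardP, ← Nat.card_congr e'.toEquiv]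
      refine (le_of_eq ?_).trans (Nat.card_le_card_of_surjective _ hsurj)
      congr 2
      ext y
      constructor
      · rintro ⟨x, rfl⟩; exact ⟨QuotientGroup.mk x, rfl⟩
      · rintro ⟨x, rfl⟩
        obtain ⟨x, rfl⟩ := QuotientGroup.mk_surjective x
        exact ⟨x, rfl⟩
    have h2 := (Subgroup.card_le_of_le hle).trans h1
    omega
  have hrcard : Nat.card fK.range = 25920 := by
    have hd : Nat.card fK.range ∣ 51840 := hcardA ▸ Subgroup.card_subgroup_dvd_card fK.range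
    have hge : 25920 ≤ Nat.card fK.range := by
      rw [hKcard, hHcard] at hKidx6
      nlinarith
    obtain ⟨q, hq⟩ := hd
    have hq2 : q ≤ 2 := by nlinarith
    interval_cases q
    · omega
    · exact absurd (by omega) hrange_ne
    · omega
  have hKidx' : K.index = 6 := by
    rw [hKcard, hrcard, hHcard] at hKidx6
    omega
  have hrI : fK.range = (MulAut.conj : Cfsg.PSp 2 F →* MulAut (Cfsg.PSp 2 F)).range := by
    set I := (MulAut.conj : Cfsg.PSp 2 F →* MulAut (Cfsg.PSp 2 F)).range with hI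
    have hIn : (fK.range.subgroupOf I).Normal := hrn.subgroupOf I
    have : IsSimpleGroup ↥I := by
      have : Nontrivial ↥I := (MonoidHom.ofInjective hinj).symm.toEquiv.nontrivial
      exact IsSimpleGroup.isSimpleGroup_of_surjective (MonoidHom.ofInjective hinj).toMonoidHom
        (MonoidHom.ofInjective hinj).surjective
    rcases hIn.eq_bot_or_eq_top with h | h
    · exfalso
      rw [Subgroup.subgroupOf_eq_bot] at h
      have hinj2 : Function.Injective (fun p : fK.range × I => (p.1 : MulAut (Cfsg.PSp 2 F)) * p.2) := by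
        intro p q hpq
        have he : (q.1 : MulAut (Cfsg.PSp 2 F))⁻¹ * p.1 = q.2 * (p.2 : MulAut (Cfsg.PSp 2 F))⁻¹ := by
          simp only at hpq
          rw [eq_mul_inv_iff_mul_eq, mul_assoc, hpq, inv_mul_cancel_left]
        have hm : (q.1 : MulAut (Cfsg.PSp 2 F))⁻¹ * p.1 = 1 :=
          Subgroup.disjoint_def.1 h (mul_mem (inv_mem q.1.2) p.1.2)
            (he ▸ mul_mem q.2.2 (inv_mem p.2.2))
        rw [inv_mul_eq_one] at hm
        simp only [← hm] at hpq
        exact Prod.ext (Subtype.ext hm.symm) (Subtype.ext (mul_left_cancel hpq))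
      have hle := Nat.card_le_card_of_injective _ hinj2
      rw [Nat.card_prod, hrcard, hIcard, hcardA] at hle
      norm_num at hle
    · rw [Subgroup.subgroupOf_eq_top] at h
      exact (Subgroup.eq_of_le_of_card_ge h (by rw [hrcard, hIcard])).symm
  let g₀ : ↥K →* ↥(MulAut.conj : Cfsg.PSp 2 F →* MulAut (Cfsg.PSp 2 F)).range :=
    fK.codRestrict _ fun x => hrI ▸ ⟨x, rfl⟩
  let π : ↥K →* Cfsg.PSp 2 F := (MonoidHom.ofInjective hinj).symm.toMonoidHom.comp g₀
  have hπk : ∀ g : ↥K, π g = 1 ↔ (g : H) ∈ P := fun g => by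
    show (MonoidHom.ofInjective hinj).symm (g₀ g) = 1 ↔ _
    rw [MulEquiv.map_eq_one_iff]
    refine ⟨fun h => hKP g g.2 (congrArg Subtype.val h), fun h => Subtype.ext ?_⟩
    exact (hfk _).2 (Subgroup.mem_sup_left h)
  have hπs : Function.Surjective π := fun p => by
    obtain ⟨g, hg⟩ : MulAut.conj p ∈ fK.range := hrI.symm ▸ ⟨p, rfl⟩
    refine ⟨g, ?_⟩
    show (MonoidHom.ofInjective hinj).symm (g₀ g) = p
    rw [MulEquiv.symm_apply_eq]
    exact Subtype.ext hg
  have houter : ∃ o : H, o * a * o⁻¹ = a ∧ o * b * o⁻¹ = a * b := by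
    have hsurj : Function.Surjective σ := by
      rw [← MonoidHom.range_eq_top]
      refine Subgroup.eq_top_of_card_eq _ ?_
      rw [← Subgroup.index_ker, hσk, hKidx', hperm]
    obtain ⟨o, ho⟩ := hsurj (Equiv.swap ⟨b, Or.inr (Or.inl rfl)⟩ ⟨a * b, Or.inr (Or.inr rfl)⟩)
    refine ⟨o, ?_, ?_⟩
    · have h := DFunLike.congr_fun ho ⟨a, Or.inl rfl⟩
      rw [Equiv.swap_apply_of_ne_of_ne (fun h => hbab (congrArg Subtype.val h).symm)
        (fun h => hb1 (left_eq_mul.1 (congrArg Subtype.val h)))] at h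
      exact congrArg Subtype.val h
    · have h := DFunLike.congr_fun ho ⟨b, Or.inr (Or.inl rfl)⟩
      rw [Equiv.swap_apply_left] at h
      exact congrArg Subtype.val h
  refine ⟨a, b, K, π,
    { a_sq := hZsq a haZ
      b_sq := hZsq b hbZ
      ab_comm := hZc a haZ b hbZ
      a_ne := ⟨ha1, haz⟩
      b_ne := ⟨hb1, hbz, hbab, hbaz⟩
      ab_ne := habz
      c_a := hca
      c_b := hcb
      outer := houter
      P_le := hPK
      a_mem := haZ.1
      b_mem := hbZ.1
      z_mem := hzP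
      mem_K := hmemK
      conj_W := hcon
      card_P := hPcard
      sq_mem := hsqP
      comm_mem := hcomP
      center := fun p hp hpc => h8 p ⟨hp, Subgroup.mem_centralizer_iff.2 fun x hx =>
        (hpc x hx).eq.symm⟩
      c_fix := ?_
      c_K := fun h hh => hKP _ (mul_mem ((hσk ▸ MonoidHom.normal_ker σ : K.Normal).conj_mem h hh c)
        (inv_mem hh)) (by
          rw [map_mul, map_mul, map_mul, map_inv, map_inv,
            (hfk c).2 (Subgroup.mem_sup_right (Subgroup.mem_zpowers c))]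
          group)
      inner := ?_
      π_surj := hπs
      π_ker := hπk
      card_H := hHcard
      card_K := by rw [hKcard, hrcard] }⟩
  · intro p hp hu
    set u := c * p * c⁻¹ * p⁻¹ with hud
    have huZ : u ∈ Z := by
      rcases hu with h | h
      · exact hfour u h
      · have := mul_mem (hfour _ h) hzZ
        rwa [mul_assoc, hzz, mul_one] at this
    have hcp : c * p * c⁻¹ = u * p := by rw [hud, inv_mul_cancel_right]
    have hzc' : c * z * c⁻¹ = z := by rw [← (hzcen c).eq, mul_inv_cancel_right]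
    have hd : ∀ y : H, Four a b y → ∃ x ∈ Z, x * (c * x * c⁻¹) = y := by
      rintro y (rfl | rfl | rfl | rfl)
      · exact ⟨1, one_mem _, by group⟩
      · exact ⟨v, hv₀, rfl⟩
      · exact ⟨v₁, hv₁Z, rfl⟩
      · exact ⟨v₂, hv₂Z, by rw [hcyc, hab, (hZc _ hv₀ _ hv₂Z).eq]⟩
    rcases hu with h | h
    · obtain ⟨x, hx, hxu⟩ := hd u h
      have hfix : Commute (p * x) c := by
        have hcx : c * x * c⁻¹ ∈ Z := hZconj c x hx
        have h1 : c * (p * x) * c⁻¹ = p * x := by
          rw [show c * (p * x) * c⁻¹ = (c * p * c⁻¹) * (c * x * c⁻¹) by group, hcp, ← hxu,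
            show x * (c * x * c⁻¹) * p * (c * x * c⁻¹) = x * (c * x * c⁻¹) * (p * (c * x * c⁻¹)) by
              group, ← (hZcen _ hcx p hp).eq,
            show x * (c * x * c⁻¹) * (c * x * c⁻¹ * p) =
              x * ((c * x * c⁻¹) * (c * x * c⁻¹)) * p by group, hZsq _ hcx, mul_one,
            (hZcen x hx p hp).eq]
        rw [mul_inv_eq_iff_eq_mul] at h1
        exact h1.symm
      have hpZ : p ∈ Z := by
        rcases fixed (mul_mem hp hx.1) hfix with e | e
        · rw [eq_inv_of_mul_eq_one_left e]; exact inv_mem hx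
        · rw [eq_mul_inv_of_mul_eq e]; exact mul_mem hzZ (inv_mem hx)
      exact h8 p hpZ
    · exfalso
      obtain ⟨y, hy, hyu⟩ : ∃ y, Four a b y ∧ u = y * z :=
        ⟨u * z, h, by rw [mul_assoc, hzz, mul_one]⟩
      have hnorm : (c * (c * u * c⁻¹) * c⁻¹) * (c * u * c⁻¹) * u = 1 := by
        rw [hud, show c * (c * (c * p * c⁻¹ * p⁻¹) * c⁻¹) * c⁻¹ *
          (c * (c * p * c⁻¹ * p⁻¹) * c⁻¹) * (c * p * c⁻¹ * p⁻¹) = c * c * c * p * (c * c * c)⁻¹ * p⁻¹ by
            group, hccc]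
        group
      have hcy : c * u * c⁻¹ = c * y * c⁻¹ * z := by
        rw [hyu, show c * (y * z) * c⁻¹ = (c * y * c⁻¹) * (c * z * c⁻¹) by group, hzc']
      have hccy : c * (c * u * c⁻¹) * c⁻¹ = c * (c * y * c⁻¹) * c⁻¹ * z := by
        rw [hcy, show c * (c * y * c⁻¹ * z) * c⁻¹ = (c * (c * y * c⁻¹) * c⁻¹) * (c * z * c⁻¹) by
          group, hzc']
      set y₁ := c * y * c⁻¹ with hy₁
      set y₂ := c * y₁ * c⁻¹ with hy₂
      have hsum : y₂ * y₁ * y = 1 := by
        have haa := hZsq a haZ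
        have hbb := hZsq b hbZ
        have hcab : c * (a * b) * c⁻¹ = a := by
          rw [show c * (a * b) * c⁻¹ = (c * a * c⁻¹) * (c * b * c⁻¹) by group, hca, hcb,
            (hZc a haZ b hbZ).eq, ← mul_assoc, hbb, one_mul]
        rcases hy with rfl | rfl | rfl | rfl
        · simp [hy₂, hy₁]
        · rw [hy₂, hy₁, hca, hcb, mul_assoc (a * b), ← (hZc _ haZ b hbZ).eq]
          exact hZsq _ (mul_mem haZ hbZ)
        · rw [hy₂, hy₁, hcb, hcab, ← mul_assoc a a b, haa, one_mul, hbb]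
        · rw [hy₂, hy₁, hcab, hca, (hZc b hbZ a haZ).eq]
          exact hZsq _ (mul_mem haZ hbZ)
      rw [hccy, hcy, hyu,
        show y₂ * z * (y₁ * z) * (y * z) = y₂ * (z * y₁) * (z * y) * z by group,
        (hzcen y₁).eq, (hzcen y).eq, show y₂ * (y₁ * z) * (y * z) * z = y₂ * y₁ * (z * y) * (z * z) by
          group, hzz, mul_one, (hzcen y).eq, ← mul_assoc, hsum, one_mul] at hnorm
      exact hz1 hnorm
  · intro g hg
    refine hnat g ((hfk g).1 (MulEquiv.ext fun p => ?_))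
    obtain ⟨k, hk⟩ : MulAut.conj p ∈ fK.range := hrI.symm ▸ ⟨p, rfl⟩
    have h2 : f (g * k * g⁻¹ * (k : H)⁻¹) = 1 := (hfk _).2 (Subgroup.mem_sup_left (hg k k.2))
    have hk' : f (k : H) = MulAut.conj p := hk
    rw [map_mul, map_mul, map_mul, map_inv, map_inv, hk', mul_inv_eq_one,
      mul_inv_eq_iff_eq_mul] at h2
    refine hinj (MulEquiv.ext fun q => ?_)
    have h3 := DFunLike.congr_fun h2 ((f g).symm q)
    simp only [MulAut.mul_apply, MulAut.conj_apply, map_mul, map_inv,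
      MulEquiv.apply_symm_apply] at h3
    simpa [MulAut.conj_apply] using h3

end H20.Fi23C
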