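import Cfsg.Agent.H2.Fi23C.Basic
import Cfsg.Agent.H20.Fi23C.Local

/-!
The hypotheses of S3233 give the data `Setup4`, which are symmetric under `c`.
-/

set_option autoImplicit false

namespace H20.Fi23C

open H2.Fi23C

universe u v

theorem rot : RotStmt.{u, v} := by
  intro G _ _ F _ _ z a b c J K₀ π S
  have hcen : ∀ g ∈ Subgroup.centralizer ({z} : Set G), Commute g z := fun g hg =>
    Subgroup.mem_centralizer_singleton_iff.1 hg
  have hcz : c * z * c⁻¹ = z := by rw [(hcen c S.c_mem).eq, mul_inv_cancel_right]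
  have hbab : b * (a * b) = a := by
    rw [← mul_assoc, ← S.ab_comm.eq, mul_assoc, S.b_sq, mul_one]
  have hcab : c * (a * b) * c⁻¹ = b * (a * b) := by
    rw [show c * (a * b) * c⁻¹ = (c * a * c⁻¹) * (c * b * c⁻¹) by group, S.c_a, S.c_b]
  have hW : ∀ p, InW b (a * b) p ↔ InW a b p := by
    intro p
    simp only [InW, hbab]
    tauto
  have hZ : ∀ p, InZ z b (a * b) p ↔ InZ z a b p := fun p => or_congr (hW p) (hW (p * z))
  have habz : a * b ≠ b * z := fun h => S.a_ne.2 (by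
    calc a = a * (b * b) := by rw [S.b_sq, mul_one]
      _ = b * z * b := by rw [← mul_assoc, h]
      _ = b * (z * b) := mul_assoc _ _ _
      _ = b * (b * z) := by rw [(hcen b (S.le_cent (S.J_le S.b_mem))).eq]
      _ = z := by rw [← mul_assoc, S.b_sq, one_mul])
  obtain ⟨o, ho, hoa, hob⟩ := S.outer
  refine
    { S with
      a_sq := S.b_sq
      b_sq := by rw [mul_assoc, hbab, S.a_sq]
      ab_comm := S.ab_comm.symm.mul_right (Commute.refl b)
      a_ne := ⟨S.b_ne.1, S.b_ne.2.1⟩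
      b_ne := ⟨fun h => S.b_ne.2.2.1 ?_, S.ab_ne, fun h => S.a_ne.1 (mul_eq_right.1 h), habz⟩
      ab_ne := by rw [hbab]; exact S.a_ne.2
      c_a := S.c_b
      c_b := hcab
      outer := ⟨c * o * c⁻¹, mul_mem (mul_mem S.c_mem ho) (inv_mem S.c_mem), ?_, ?_⟩
      a_mem := S.b_mem
      b_mem := mul_mem S.a_mem S.b_mem
      a_K₀ := S.b_K₀
      b_K₀ := fun g hg => (S.a_K₀ g hg).mul_left (S.b_K₀ g hg)
      mem_K₀ := fun g hg h1 h2 => S.mem_K₀ g hg ?_ h1
      conj_W := fun g hg w hw => (hW _).2 (S.conj_W g hg w ((hW w).1 hw))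
      center := fun p hp hc => (hZ p).2 (S.center p hp hc)
      c_fix := fun p hp h => (hZ p).2 (S.c_fix p hp ((hZ _).1 h)) }
  · rw [eq_inv_of_mul_eq_one_left h, inv_eq_of_mul_eq_one_right S.b_sq]
  · rw [← S.c_a, show c * o * c⁻¹ * (c * a * c⁻¹) * (c * o * c⁻¹)⁻¹ = c * (o * a * o⁻¹) * c⁻¹ by
      group, hoa]
  · conv_lhs => rw [← S.c_b]
    rw [show c * o * c⁻¹ * (c * b * c⁻¹) * (c * o * c⁻¹)⁻¹ = c * (o * b * o⁻¹) * c⁻¹ by group, hob,
      hcab]
  · have h3 : Commute (b * (a * b)) g := h1.mul_left h2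
    rwa [hbab] at h3

theorem setup : SetupStmt.{u, v} := by
  intro G _ _ z hz F _ _ hF V E hVE hV hV2 hE hEc hCJ zc c hzc hc _ e _ e'
  classical
  have : Fact (Nat.Prime 2) := ⟨Nat.prime_two⟩
  have hzzc : orderOf zc = 2 := by rw [← Subgroup.orderOf_coe, hzc, hz]
  have hzcen : ∀ g, Commute zc g := fun g => Subtype.ext (by
    show (zc : G) * g = g * zc
    rw [hzc]
    exact (Subgroup.mem_centralizer_singleton_iff.1 g.2).symm)
  obtain ⟨a, b, K, π, D⟩ := exists_hdata hF ((default : Sylow 2 _).2.to_le (H1.pCore_le_sylow default)) hVE hV hV2 hE hEc hCJ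
    hzzc hzcen hc e e'
  let ι := (Subgroup.centralizer ({z} : Set G)).subtype
  have hι : Function.Injective ι := (Subgroup.centralizer ({z} : Set G)).subtype_injective
  let eK : ↥K ≃* ↥(K.map ι) := K.equivMapOfInjective ι hι
  have hW : ∀ p : ↥(Subgroup.centralizer ({z} : Set G)), InW (a : G) b (p : G) ↔ Four a b p := by
    intro p
    constructor
    · rintro (h | h | h | h)
      exacts [Or.inl (Subtype.ext h), Or.inr (Or.inl (Subtype.ext h)),
        Or.inr (Or.inr (Or.inl (Subtype.ext h))), Or.inr (Or.inr (Or.inr (Subtype.ext h)))]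
    · rintro (h | h | h | h) <;> rw [h]
      exacts [Or.inl rfl, Or.inr (Or.inl rfl), Or.inr (Or.inr (Or.inl rfl)),
        Or.inr (Or.inr (Or.inr rfl))]
  have hZ : ∀ p : ↥(Subgroup.centralizer ({z} : Set G)),
      InZ z (a : G) b (p : G) ↔ Eight zc a b p := by
    intro p
    refine or_congr (hW p) ?_
    rw [← hW (p * zc), Subgroup.coe_mul, hzc]
  have hcm : ∀ {x y : ↥(Subgroup.centralizer ({z} : Set G))},
      Commute (x : G) (y : G) ↔ Commute x y :=
    fun {x y} => ⟨fun h => Subtype.ext h.eq, fun h => congrArg Subtype.val h.eq⟩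
  refine ⟨a, b, c, (Cfsg.pCore 2 ↥(Subgroup.centralizer ({z} : Set G))).map ι, K.map ι,
    π.comp eK.symm.toMonoidHom, ?_⟩
  refine
    { card_F := hF
      sq := by rw [← pow_two, ← hz, pow_orderOf_eq_one]
      ne_one := fun h => by rw [h, orderOf_one] at hz; omega
      a_sq := congrArg Subtype.val D.a_sq
      b_sq := congrArg Subtype.val D.b_sq
      ab_comm := hcm.2 D.ab_comm
      a_ne := ⟨fun h => D.a_ne.1 (Subtype.ext h),
        fun h => D.a_ne.2 (Subtype.ext (h.trans hzc.symm))⟩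
      b_ne := ⟨fun h => D.b_ne.1 (Subtype.ext h),
        fun h => D.b_ne.2.1 (Subtype.ext (h.trans hzc.symm)),
        fun h => D.b_ne.2.2.1 (Subtype.ext h),
        fun h => D.b_ne.2.2.2 (Subtype.ext (by rw [Subgroup.coe_mul, hzc]; exact h))⟩
      ab_ne := fun h => D.ab_ne (Subtype.ext (by rw [Subgroup.coe_mul, hzc]; exact h))
      c_pow := by rw [← Subgroup.coe_pow, ← hc, pow_orderOf_eq_one]; rfl
      c_mem := c.2
      c_a := congrArg Subtype.val D.c_a
      c_b := congrArg Subtype.val D.c_b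
      outer := ?_
      le_cent := Subgroup.map_subtype_le K
      J_le := Subgroup.map_mono D.P_le
      z_mem := ⟨zc, D.z_mem, hzc⟩
      a_mem := ⟨a, D.a_mem, rfl⟩
      b_mem := ⟨b, D.b_mem, rfl⟩
      a_K₀ := ?_
      b_K₀ := ?_
      mem_K₀ := fun g hg h1 h2 =>
        ⟨⟨g, hg⟩, (D.mem_K _).2 ⟨hcm.1 h1, hcm.1 h2⟩, rfl⟩
      conj_W := fun g hg w hw => ?_
      card_J := by
        rw [← D.card_P]
        exact (Nat.card_congr ((Cfsg.pCore 2 _).equivMapOfInjective _ hι).toEquiv).symm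
      conj_mem := ?_
      sq_mem := ?_
      comm_mem := ?_
      center := ?_
      self_cent := fun g hg hcg => ⟨⟨g, hg⟩, hCJ (Subgroup.mem_centralizer_iff.2 fun y hy =>
        (hcm.1 (hcg _ ⟨y, hy, rfl⟩)).eq.symm), rfl⟩
      c_fix := ?_
      c_K₀ := ?_
      inner := fun g hg hcg => ?_
      π_surj := D.π_surj.comp eK.symm.surjective
      π_ker := fun g => ?_
      core := rfl
      card_cent := D.card_H
      card_K₀ := by rw [← D.card_K]; exact (Nat.card_congr eK.toEquiv).symm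
      card_psp := H2.U6E.card_psp_two hF
      simple_psp := H48.isSimpleGroup_psp (Or.inr (Or.inl ⟨by simp, by omega⟩)) }
  · obtain ⟨o, h1, h2⟩ := D.outer
    exact ⟨o, o.2, congrArg Subtype.val h1, congrArg Subtype.val h2⟩
  · rintro _ ⟨x, hx, rfl⟩
    exact hcm.2 ((D.mem_K x).1 hx).1
  · rintro _ ⟨x, hx, rfl⟩
    exact hcm.2 ((D.mem_K x).1 hx).2
  · obtain ⟨w', rfl⟩ : ∃ w' : ↥(Subgroup.centralizer ({z} : Set G)), (w' : G) = w := by
      rcases hw with rfl | rfl | rfl | rfl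
      exacts [⟨1, rfl⟩, ⟨a, rfl⟩, ⟨b, rfl⟩, ⟨a * b, rfl⟩]
    exact (hW (⟨g, hg⟩ * w' * ⟨g, hg⟩⁻¹)).2 (D.conj_W _ _ ((hW w').1 hw))
  · rintro g hg _ ⟨x, hx, rfl⟩
    exact ⟨⟨g, hg⟩ * x * ⟨g, hg⟩⁻¹, (Cfsg.pCore_normal 2 _).conj_mem x hx _, rfl⟩
  · rintro _ ⟨x, hx, rfl⟩
    exact (D.sq_mem x hx).imp (congrArg Subtype.val)
      (fun h => (congrArg Subtype.val h).trans hzc)
  · rintro _ ⟨x, hx, rfl⟩ _ ⟨y, hy, rfl⟩
    refine (D.comm_mem x hx y hy).imp (congrArg Subtype.val) fun h => ?_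
    have h' : (x : G) * y = y * x * zc := congrArg Subtype.val h
    rwa [hzc] at h'
  · rintro _ ⟨x, hx, rfl⟩ hxc
    exact (hZ x).2 (D.center x hx fun y hy => hcm.1 (hxc _ ⟨y, hy, rfl⟩))
  · rintro _ ⟨x, hx, rfl⟩ h
    exact (hZ x).2 (D.c_fix x hx ((hZ (c * x * c⁻¹ * x⁻¹)).1 h))
  · rintro _ ⟨x, hx, rfl⟩
    exact ⟨c * x * c⁻¹ * x⁻¹, D.c_K x hx, rfl⟩
  · obtain ⟨i, j, hj, hij⟩ := D.inner ⟨g, hg⟩ fun k hk => by
      obtain ⟨x, hx, hxe⟩ := hcg _ ⟨k, hk, rfl⟩
      rwa [show (⟨g, hg⟩ : ↥(Subgroup.centralizer ({z} : Set G))) * k * ⟨g, hg⟩⁻¹ * k⁻¹ = x from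
        (Subtype.ext hxe).symm]
    exact ⟨i, j, ⟨j, hj, rfl⟩, congrArg Subtype.val hij⟩
  · rw [MonoidHom.comp_apply, MulEquiv.coe_toMonoidHom, D.π_ker]
    obtain ⟨x, rfl⟩ := eK.surjective g
    rw [MulEquiv.symm_apply_apply]
    constructor
    · exact fun h => ⟨x, h, rfl⟩
    · rintro ⟨y, hy, hye⟩
      have : y = (x : ↥(Subgroup.centralizer ({z} : Set G))) := Subtype.ext hye
      exact this ▸ hy

end H20.Fi23C
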